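import Cfsg.Agent.Lib.Helper59.OHyp.BlkDefs

/-!
# OHYP project (S5992), BLK cut, package [MINUS]

For `i = ord_r(q)` even, a minimal invariant nondegenerate subspace `D` of dimension `i` without
fixed vectors is not of plus type: otherwise `x` would permute the
`(q^m - 1)(q^(m-1) + 1)` nonzero singular vectors of `D` (`m = i/2`) without fixed points.
-/

set_option autoImplicit false
open Matrix

namespace Cfsg.Agent.Lib.Helper34.OHyp

open Cfsg.Agent.Lib.Helper23.OHyp Cfsg.Agent.Lib.Helper59.OHyp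

universe u

/-- the arithmetic core: `r` does not divide `(q^m - 1)(q^(m-1) + 1)` when `q` has even order
`2m` modulo the odd prime `r`. -/
theorem minus_arith (q r m a : ℕ) (hr : r.Prime) (hr2 : r ≠ 2) (hm1 : 1 ≤ m)
    (hi : orderOf ((q : ℕ) : ZMod r) = m + m) (ha : q ^ (m - 1 + 1) = a + 1)
    (hdvd : r ∣ a * (q ^ (m - 1) + 1)) : False := by
  rcases (Nat.Prime.dvd_mul hr).mp hdvd with h | h
  · have h1 : ((q ^ (m - 1 + 1) : ℕ) : ZMod r) = ((a + 1 : ℕ) : ZMod r) := by rw [ha]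
    push_cast at h1
    rw [(ZMod.natCast_eq_zero_iff a r).mpr h, zero_add] at h1
    have hord : orderOf ((q : ℕ) : ZMod r) ∣ m - 1 + 1 := orderOf_dvd_of_pow_eq_one h1
    rw [hi] at hord
    have := Nat.le_of_dvd (by omega) hord
    omega
  · have h1 : ((q ^ (m - 1) + 1 : ℕ) : ZMod r) = 0 := (ZMod.natCast_eq_zero_iff _ r).mpr h
    push_cast at h1
    have hneg : ((q : ℕ) : ZMod r) ^ (m - 1) = -1 := eq_neg_of_add_eq_zero_left h1
    have hsq : ((q : ℕ) : ZMod r) ^ ((m - 1) * 2) = 1 := by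
      rw [pow_mul, hneg]
      norm_num
    have hord : orderOf ((q : ℕ) : ZMod r) ∣ (m - 1) * 2 := orderOf_dvd_of_pow_eq_one hsq
    rw [hi] at hord
    by_cases hj : m - 1 = 0
    · rw [hj, pow_zero] at h
      exact hr2 ((Nat.prime_dvd_prime_iff_eq hr Nat.prime_two).mp h)
    · have := Nat.le_of_dvd (by omega) hord
      omega

/-- the counting identity `q^(2j+1) + q^(j+1) - q^j = (q^(j+1) - 1)(q^j + 1) + 1`, `j = m - 1`. -/
theorem minus_count (q m a : ℕ) (ha : q ^ (m - 1 + 1) = a + 1) :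
    q ^ (2 * (m - 1) + 1) + q ^ (m - 1 + 1) - q ^ (m - 1) = a * (q ^ (m - 1) + 1) + 1 := by
  have h1 : q ^ (2 * (m - 1) + 1) = (a + 1) * q ^ (m - 1) := by
    rw [← ha, ← pow_add]
    have e : 2 * (m - 1) + 1 = m - 1 + 1 + (m - 1) := by omega
    rw [e]
  rw [h1, ha]
  have h2 : (a + 1) * q ^ (m - 1) + (a + 1) = a * (q ^ (m - 1) + 1) + 1 + q ^ (m - 1) := by ring
  rw [h2]
  exact Nat.add_sub_cancel_right ..

theorem pkgMinus_of (hS : PkgSingCnt.{u}) : PkgMinus.{u} := by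
  intro F _ _ ι _ _ Q r x hstd D hmin hnofix hnd heven hdim hplus
  classical
  have hfact : Fact r.Prime := ⟨hstd.prime⟩
  have hDne : D ≠ ⊥ := hmin.2.1
  have hipos : 0 < ordI (Fintype.card F) r := by
    rw [← hdim]
    by_contra hcon
    have h0 : Module.finrank F D = 0 := by omega
    exact hDne (Submodule.finrank_eq_zero.mp h0)
  obtain ⟨m, hm⟩ := heven
  have hm1 : 1 ≤ m := by omega
  have hcnt := hS F ι Q hstd.nondeg hstd.two D (m - 1) hnd hplus (by rw [hdim, hm]; omega)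
  have hQ0 : Q 0 = 0 := by
    have h := hstd.nondeg.smul 0 0
    simpa using h
  have h0 : (0 : ι → F) ∈ {v : ι → F | v ∈ D ∧ Q v = 0} := ⟨D.zero_mem, hQ0⟩
  have hcard1 : ({v : ι → F | v ∈ D ∧ Q v = 0} \ {0}).ncard + 1 =
      ({v : ι → F | v ∈ D ∧ Q v = 0}).ncard :=
    Set.ncard_sdiff_singleton_add_one h0 (Set.toFinite _)
  have hcard2 : ({v : ι → F | v ∈ D ∧ Q v = 0}).ncard =
      Nat.card {v : ι → F // v ∈ D ∧ Q v = 0} :=
    (Nat.card_coe_set_eq {v : ι → F | v ∈ D ∧ Q v = 0}).symm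
  have hxmem : ∀ v ∈ D, x *ᵥ v ∈ D := fun v hv =>
    hmin.1 (Submodule.mem_map.mpr ⟨v, hv, Matrix.toLin'_apply x v⟩)
  have hxne : ∀ v : ι → F, x *ᵥ v = 0 → v = 0 := by
    intro v hv
    have h1 : x ^ (r - 1) * x = 1 := by
      rw [← pow_succ, Nat.sub_add_cancel hstd.prime.one_le, hstd.pow]
    calc v = (1 : Matrix ι ι F) *ᵥ v := (Matrix.one_mulVec v).symm
      _ = (x ^ (r - 1) * x) *ᵥ v := by rw [h1]
      _ = x ^ (r - 1) *ᵥ (x *ᵥ v) := (Matrix.mulVec_mulVec v (x ^ (r - 1)) x).symm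
      _ = 0 := by rw [hv, Matrix.mulVec_zero]
  let f : Function.End ↥({v : ι → F | v ∈ D ∧ Q v = 0} \ {0}) := fun v =>
    ⟨x *ᵥ v.1, ⟨hxmem v.1 v.2.1.1, by rw [hstd.isom]; exact v.2.1.2⟩,
      fun h => v.2.2 (hxne v.1 h)⟩
  have hfpow : ∀ k : ℕ, ∀ v : ↥({v : ι → F | v ∈ D ∧ Q v = 0} \ {0}),
      ((f ^ k) v).1 = (x ^ k) *ᵥ v.1 := by
    intro k
    induction k with
    | zero =>
      intro v
      rw [pow_zero, pow_zero, Matrix.one_mulVec]
      rfl
    | succ k ih =>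
      intro v
      rw [pow_succ', pow_succ']
      show x *ᵥ ((f ^ k) v).1 = (x * x ^ k) *ᵥ v.1
      rw [ih, Matrix.mulVec_mulVec]
  have hf : f ^ r ^ 1 = 1 := by
    rw [pow_one]
    funext v
    apply Subtype.ext
    rw [hfpow, hstd.pow, Matrix.one_mulVec]
    rfl
  have hmod := Equiv.Perm.card_fixedPoints_modEq (f := f) (p := r) (n := 1) hf
  have hfix : Fintype.card (Function.fixedPoints f) = 0 := by
    rw [Fintype.card_eq_zero_iff]
    constructor
    rintro ⟨v, hv⟩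
    have h1 : x *ᵥ v.1 = v.1 := congrArg Subtype.val hv
    exact v.2.2 (hnofix v.1 v.2.1.1 h1)
  rw [hfix] at hmod
  have hdvd : r ∣ Fintype.card ↥({v : ι → F | v ∈ D ∧ Q v = 0} \ {0}) :=
    (Nat.modEq_zero_iff_dvd).mp hmod
  have hcard3 : Fintype.card ↥({v : ι → F | v ∈ D ∧ Q v = 0} \ {0}) =
      ({v : ι → F | v ∈ D ∧ Q v = 0} \ {0}).ncard := by
    rw [← Nat.card_eq_fintype_card, Nat.card_coe_set_eq]
  have hq1 : 1 ≤ Fintype.card F := Fintype.card_pos
  obtain ⟨a, ha⟩ : ∃ a, Fintype.card F ^ (m - 1 + 1) = a + 1 :=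
    ⟨Fintype.card F ^ (m - 1 + 1) - 1, by
      have := Nat.one_le_pow (m - 1 + 1) (Fintype.card F) hq1
      omega⟩
  have hN := minus_count (Fintype.card F) m a ha
  have hSc : Fintype.card ↥({v : ι → F | v ∈ D ∧ Q v = 0} \ {0}) =
      a * (Fintype.card F ^ (m - 1) + 1) := by
    rw [hcard3]
    rw [hcard2, hcnt, hN] at hcard1
    omega
  rw [hSc] at hdvd
  exact minus_arith (Fintype.card F) r m a hstd.prime hstd.ne_two hm1 hm ha hdvd

end Cfsg.Agent.Lib.Helper34.OHyp
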