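import Cfsg.Agent.Lib.Helper34.OHyp.SingCnt
import Cfsg.Agent.Lib.Helper34.OHyp.Minus

/-!
# OHYP project (S5992), BLK cut: the closed form of [MINUS]
-/

set_option autoImplicit false

namespace Cfsg.Agent.Lib.Helper34.OHyp

open Cfsg.Agent.Lib.Helper59.OHyp

universe u

/-- [MINUS], unconditional (from `pkgSingCnt`). -/
theorem pkgMinus : PkgMinus.{u} := pkgMinus_of pkgSingCnt

end Cfsg.Agent.Lib.Helper34.OHyp
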