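import Cfsg.Agent.Lib.Helper59.OHyp.BlkDefs

/-!
# OHYP project (S5992), BLK cut, package [SINGCNT]

The number of singular vectors of a nondegenerate plus-type subspace `D` of dimension `2(j+1)`
is `q^(2j+1) + q^(j+1) - q^j`.  Proof by double counting the pairs `(u, v) ∈ U × D` with
`Q(v + u) = 0`, `U ≤ D` totally singular of dimension `j + 1` (so `U^⊥ ∩ D = U`).
-/

set_option autoImplicit false
open Matrix

namespace Cfsg.Agent.Lib.Helper34.OHyp

open Cfsg.Agent.Lib.Helper23.OHyp Cfsg.Agent.Lib.Helper59.OHyp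

universe u v

/-- the fibres of a nonzero linear functional on a finite vector space -/
theorem card_fiber_mul {F : Type u} [Field F] [Finite F] {V : Type v} [AddCommGroup V]
    [Module F V] [Finite V] (φ : V →ₗ[F] F) (hφ : φ ≠ 0) (t : F) :
    Nat.card {w : V // φ w = t} * Nat.card F = Nat.card V := by
  obtain ⟨u₀, hu₀⟩ : ∃ u₀, φ u₀ ≠ 0 := by
    by_contra h
    push Not at h
    exact hφ (LinearMap.ext h)
  have hsurj : Function.Surjective φ := by
    intro s
    refine ⟨(s / φ u₀) • u₀, ?_⟩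
    rw [map_smul, smul_eq_mul, div_mul_cancel₀ _ hu₀]
  obtain ⟨u₁, hu₁⟩ := hsurj t
  have e : {w : V // φ w = t} ≃ ↥(LinearMap.ker φ) :=
    { toFun := fun w => ⟨w.1 - u₁, by rw [LinearMap.mem_ker, map_sub, w.2, hu₁, sub_self]⟩
      invFun := fun w => ⟨w.1 + u₁, by rw [map_add, LinearMap.mem_ker.mp w.2, hu₁, zero_add]⟩
      left_inv := fun w => Subtype.ext (by simp)
      right_inv := fun w => Subtype.ext (by simp) }
  rw [Nat.card_congr e, Submodule.card_eq_card_quotient_mul_card (LinearMap.ker φ),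
    Nat.card_congr (φ.quotKerEquivOfSurjective hsurj).toEquiv]

/-- the final arithmetic -/
theorem singcnt_arith (q j N : ℕ) (hq : 0 < q)
    (h : q ^ (j + 1) * N * q + q ^ (j + 1) * q ^ (j + 1) =
      q ^ (2 * (j + 1)) * q ^ (j + 1) + q ^ (j + 1) * q ^ (j + 2)) :
    N = q ^ (2 * j + 1) + q ^ (j + 1) - q ^ j := by
  have hA : 0 < q ^ (j + 1) := pow_pos hq _
  have h1 : q ^ (j + 1) * ((N + q ^ j) * q) = q ^ (j + 1) * ((q ^ (2 * j + 1) + q ^ (j + 1)) * q) := by
    have e1 : q ^ (2 * (j + 1)) = q ^ (2 * j + 1) * q := by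
      rw [← pow_succ]
      congr 1
    have e2 : q ^ (j + 2) = q ^ (j + 1) * q := by rw [← pow_succ]
    have e3 : q ^ (j + 1) = q ^ j * q := by rw [← pow_succ]
    rw [e1, e2] at h
    calc q ^ (j + 1) * ((N + q ^ j) * q)
        = q ^ (j + 1) * N * q + q ^ (j + 1) * (q ^ j * q) := by ring
      _ = q ^ (j + 1) * N * q + q ^ (j + 1) * q ^ (j + 1) := by rw [← e3]
      _ = q ^ (2 * j + 1) * q * q ^ (j + 1) + q ^ (j + 1) * (q ^ (j + 1) * q) := h
      _ = q ^ (j + 1) * ((q ^ (2 * j + 1) + q ^ (j + 1)) * q) := by ring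
  have h2 := Nat.eq_of_mul_eq_mul_left hA h1
  have h3 := Nat.eq_of_mul_eq_mul_right hq h2
  omega

theorem pkgSingCnt : PkgSingCnt.{u} := by
  intro F _ _ ι _ _ Q hQ h2 D j hnd hplus hdim
  classical
  obtain ⟨U, hUD, hUsing, hUdim⟩ := hplus
  have hUf : Module.finrank F U = j + 1 := by omega
  have hbl := hQ.polar_bilinear
  have hpolU : ∀ u ∈ U, ∀ u' ∈ U, QuadraticMap.polar Q u u' = 0 := by
    intro u hu u' hu'
    unfold QuadraticMap.polar
    rw [hUsing _ (U.add_mem hu hu'), hUsing u hu, hUsing u' hu']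
    ring
  let Bf : LinearMap.BilinForm F (ι → F) := LinearMap.mk₂ F (QuadraticMap.polar Q) hbl.add_left
    (fun c x w => by rw [hbl.smul_left, smul_eq_mul]) hbl.add_right
    (fun c w x => by rw [hbl.smul_right, smul_eq_mul])
  let BD : LinearMap.BilinForm F ↥D := Bf.restrict D
  have hBDnd : BD.Nondegenerate := by
    constructor
    · intro a ha
      by_contra hne
      obtain ⟨-, x, hx, hxne⟩ := hnd a.1 a.2 (fun h => hne (Subtype.ext h))
      exact hxne (ha ⟨x, hx⟩)
    · intro b hb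
      by_contra hne
      obtain ⟨⟨x, hx, hxne⟩, -⟩ := hnd b.1 b.2 (fun h => hne (Subtype.ext h))
      exact hxne (hb ⟨x, hx⟩)
  have hU'dim : Module.finrank F ↥(U.comap D.subtype) = j + 1 := by
    rw [← hUf]
    exact LinearEquiv.finrank_eq (Submodule.comapSubtypeEquivOfLe hUD)
  have horth : BD.orthogonal (U.comap D.subtype) = U.comap D.subtype := by
    symm
    apply Submodule.eq_of_le_of_finrank_eq
    · intro a ha
      rw [LinearMap.BilinForm.mem_orthogonal_iff]
      intro n hn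
      exact hpolU n.1 hn a.1 ha
    · rw [LinearMap.BilinForm.finrank_orthogonal hBDnd, hU'dim, hdim]
      omega
  have key : ∀ c ∈ D, (∀ u ∈ U, QuadraticMap.polar Q u c = 0) → c ∈ U := by
    intro c hc h
    have h1 : (⟨c, hc⟩ : ↥D) ∈ BD.orthogonal (U.comap D.subtype) := by
      rw [LinearMap.BilinForm.mem_orthogonal_iff]
      intro n hn
      exact h n.1 hn
    rw [horth] at h1
    exact h1
  have hq : Nat.card F = Fintype.card F := Nat.card_eq_fintype_card
  have hcU : Nat.card ↥U = Fintype.card F ^ (j + 1) := by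
    rw [Module.natCard_eq_pow_finrank (K := F), hUf, hq]
  have hcD : Nat.card ↥D = Fintype.card F ^ (2 * (j + 1)) := by
    rw [Module.natCard_eq_pow_finrank (K := F), hdim, hq]
  have hcU' : Nat.card ↥(U.comap D.subtype) = Fintype.card F ^ (j + 1) := by
    rw [Module.natCard_eq_pow_finrank (K := F), hU'dim, hq]
  have hL : ∀ u : ↥U, Nat.card {w : ↥D // Q (w.1 + u.1) = 0} =
      Nat.card {w : ↥D // Q w.1 = 0} := by
    intro u
    exact Nat.card_congr ((Equiv.addRight (⟨u.1, hUD u.2⟩ : ↥D)).subtypeEquiv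
      (fun w => Iff.rfl))
  have hR1 : ∀ w : ↥D, w.1 ∈ U →
      Nat.card {u : ↥U // Q (w.1 + u.1) = 0} = Fintype.card F ^ (j + 1) := by
    intro w hw
    rw [← hcU]
    exact Nat.card_congr (Equiv.subtypeUnivEquiv (fun u => hUsing _ (U.add_mem hw u.2)))
  have hR2 : ∀ w : ↥D, w.1 ∉ U →
      Nat.card {u : ↥U // Q (w.1 + u.1) = 0} * Fintype.card F = Fintype.card F ^ (j + 1) := by
    intro w hw
    let φ : ↥U →ₗ[F] F :=
      { toFun := fun u => QuadraticMap.polar Q w.1 u.1
        map_add' := fun a b => hbl.add_right _ _ _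
        map_smul' := fun c a => by
          simp only [RingHom.id_apply, smul_eq_mul]
          exact hbl.smul_right c _ _ }
    have hφ : φ ≠ 0 := by
      intro h0
      apply hw
      apply key w.1 w.2
      intro u hu
      rw [QuadraticMap.polar_comm]
      exact LinearMap.congr_fun h0 ⟨u, hu⟩
    have hfib := card_fiber_mul φ hφ (-(Q w.1))
    rw [hcU, hq] at hfib
    rw [← hfib]
    congr 1
    apply Nat.card_congr
    apply Equiv.subtypeEquivRight
    intro u
    have h1 : Q (w.1 + u.1) = Q w.1 + QuadraticMap.polar Q w.1 u.1 := by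
      unfold QuadraticMap.polar
      rw [hUsing u.1 u.2]
      ring
    show Q (w.1 + u.1) = 0 ↔ QuadraticMap.polar Q w.1 u.1 = -(Q w.1)
    rw [h1]
    constructor <;> intro h <;> linear_combination h
  have hsum : ∑ u : ↥U, Nat.card {w : ↥D // Q (w.1 + u.1) = 0} =
      ∑ w : ↥D, Nat.card {u : ↥U // Q (w.1 + u.1) = 0} := by
    rw [← Nat.card_sigma, ← Nat.card_sigma]
    apply Nat.card_congr
    exact
      { toFun := fun p => ⟨p.2.1, ⟨p.1, p.2.2⟩⟩
        invFun := fun p => ⟨p.2.1, ⟨p.1, p.2.2⟩⟩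
        left_inv := fun p => rfl
        right_inv := fun p => rfl }
  have hLsum : ∑ u : ↥U, Nat.card {w : ↥D // Q (w.1 + u.1) = 0} =
      Fintype.card F ^ (j + 1) * Nat.card {w : ↥D // Q w.1 = 0} := by
    rw [Finset.sum_congr rfl (fun u _ => hL u), Finset.sum_const, Finset.card_univ,
      smul_eq_mul, ← Nat.card_eq_fintype_card, hcU]
  have hterm : ∀ w : ↥D,
      Nat.card {u : ↥U // Q (w.1 + u.1) = 0} * Fintype.card F +
        (if w.1 ∈ U then Fintype.card F ^ (j + 1) else 0) =
      Fintype.card F ^ (j + 1) + (if w.1 ∈ U then Fintype.card F ^ (j + 2) else 0) := by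
    intro w
    by_cases hw : w.1 ∈ U
    · rw [if_pos hw, if_pos hw, hR1 w hw, pow_succ (Fintype.card F) (j + 1)]
      ring
    · rw [if_neg hw, if_neg hw, hR2 w hw]
  have hcnt : ∀ c : ℕ, ∑ w : ↥D, (if w.1 ∈ U then c else 0) = Fintype.card F ^ (j + 1) * c := by
    intro c
    rw [← Finset.sum_filter, Finset.sum_const, smul_eq_mul, ← hcU']
    congr 1
    rw [← Fintype.card_subtype, ← Nat.card_eq_fintype_card]
    exact Nat.card_congr (Equiv.subtypeEquivRight (fun w => Iff.rfl))
  have hRsum : (∑ w : ↥D, Nat.card {u : ↥U // Q (w.1 + u.1) = 0}) * Fintype.card F +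
      Fintype.card F ^ (j + 1) * Fintype.card F ^ (j + 1) =
      Fintype.card F ^ (2 * (j + 1)) * Fintype.card F ^ (j + 1) +
        Fintype.card F ^ (j + 1) * Fintype.card F ^ (j + 2) := by
    rw [← hcnt (Fintype.card F ^ (j + 1)), ← hcnt (Fintype.card F ^ (j + 2)), Finset.sum_mul,
      ← Finset.sum_add_distrib, Finset.sum_congr rfl (fun w _ => hterm w),
      Finset.sum_add_distrib, Finset.sum_const, Finset.card_univ, smul_eq_mul,
      ← Nat.card_eq_fintype_card, hcD]
  rw [← hsum, hLsum] at hRsum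
  have hN := singcnt_arith (Fintype.card F) j (Nat.card {w : ↥D // Q w.1 = 0})
    Fintype.card_pos hRsum
  rw [← hN]
  exact Nat.card_congr
    (Equiv.subtypeSubtypeEquivSubtypeInter (fun w : ι → F => w ∈ D) (fun w => Q w = 0)).symm

end Cfsg.Agent.Lib.Helper34.OHyp
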